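import Cfsg.Agent.H962.E7.Def
import Cfsg.Agent.H426.LieEx

/-!
# S3482, part R7: own characteristic, by exponents (helper791)

`Core` : `Row p k S`, the order of `S` of the shape of the family `fam` over the field with `p ^ f` elements; then
`fam = .e7` and `f = k`.
-/

set_option autoImplicit false

namespace Cfsg.Agent.H791.E7

open Cfsg.Agent.H436 Cfsg.Agent.H426.LieFam Cfsg.Agent.H414.LieShape Cfsg.Agent.H962.E7

universe u

/-- a factor contains the primes of exponent `e` -/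
def Good (f e : ℕ) : Fac → Prop
  | .sub j => e ∣ f * j
  | .add j => e ∣ 2 * (f * j) ∧ ¬ e ∣ f * j
  | .tri => e ∣ 12 * f

theorem Good.ex {f e : ℕ} {x : Fac} (h : Good f e x) : e ∣ ex f x := by
  cases x with
  | sub j => exact h
  | add j => exact h.1
  | tri => exact h

theorem prim_pow {p k i u : ℕ} (hk : 1 ≤ k) (h : Prim p (k * i) u) : Prim (p ^ k) i u := by
  refine ⟨h.prime, fun m => ?_, h.not_dvd_pow k⟩
  rw [← pow_mul, h.dvd_iff, Nat.mul_dvd_mul_iff_left hk]

theorem good_of_dvd {p f e u : ℕ} (hp : 1 ≤ p) (h : Prim p e u) (he : 2 ≤ e) {x : Fac} (hx : u ∣ x.val (p ^ f)) :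
    Good f e x := by
  have h1 := Prim_ex_dvd h hp hx
  cases x with
  | sub j => exact h1
  | add j =>
    refine ⟨h1, fun h2 => ?_⟩
    change u ∣ (p ^ f) ^ j + 1 at hx
    rw [← pow_mul] at hx
    have h3 := h.dvd h2
    have h4 : 1 ≤ p ^ (f * j) := Nat.one_le_pow _ _ hp
    have h5 := Nat.dvd_sub hx h3
    have h6 : p ^ (f * j) + 1 - (p ^ (f * j) - 1) = 2 := by omega
    rw [h6] at h5
    have h7 := h.odd he
    have h8 := Nat.le_of_dvd (by norm_num) h5
    have := h.prime.two_le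
    have : u = 2 := by omega
    omega
  | tri => exact h1

section core

variable {p k : ℕ} {S : Type u} [Group S] (R : Row p k S)

include R

theorem two_le_p : 2 ≤ p := R.hp.two_le

/-- **(A)** -/
theorem partA {f d N : ℕ} {l : List Fac} (h : Sh p (Nat.card S) f d N l) {x : Fac} (hx : x ∈ l) (h3 : 3 ≤ ex f x)
    (h6 : ¬ (p = 2 ∧ ex f x = 6)) : ∃ i, (i = 8 ∨ i = 10 ∨ i = 12 ∨ i = 14 ∨ i = 18) ∧ ex f x ∣ k * i := by
  refine h.all_ex R.hp (fun e => ∃ i, (i = 8 ∨ i = 10 ∨ i = 12 ∨ i = 14 ∨ i = 18) ∧ e ∣ k * i) ?_ hx h3 h6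
  intro e u _ hu hd
  rcases R.pi u hu.prime hd with h1 | ⟨i, hi, h1⟩
  · exact absurd (by rw [h1]) hu.not_dvd
  · refine ⟨i, by simpa using hi, ?_⟩
    rw [← pow_mul] at h1
    exact (hu.dvd_iff _).1 h1

/-- the large exponents -/
theorem partA' {f d N : ℕ} {l : List Fac} (h : Sh p (Nat.card S) f d N l) {x : Fac} (hx : x ∈ l)
    (h7 : 7 * k < ex f x) : ex f x = 8 * k ∨ ex f x = 9 * k ∨ ex f x = 10 * k ∨ ex f x = 12 * k ∨ ex f x = 14 * k ∨
      ex f x = 18 * k := by
  have hk := R.hk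
  obtain ⟨i, hi, t, ht⟩ := partA R h hx (by omega) (by omega)
  have ht0 : t ≠ 0 := by
    rintro rfl
    rw [mul_zero] at ht
    rcases hi with rfl | rfl | rfl | rfl | rfl <;> omega
  have ht2 : t ≤ 2 := by
    by_contra hlt
    have h1 : ex f x * 3 ≤ ex f x * t := Nat.mul_le_mul_left _ (by omega)
    rcases hi with rfl | rfl | rfl | rfl | rfl <;> omega
  have ht' : t = 1 ∨ t = 2 := by omega
  rcases ht' with rfl | rfl <;> rcases hi with rfl | rfl | rfl | rfl | rfl <;> omega

/-- all exponents are at most `18 k` -/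
theorem ex_le {f d N : ℕ} {l : List Fac} (h : Sh p (Nat.card S) f d N l) {x : Fac} (hx : x ∈ l) : ex f x ≤ 18 * k := by
  by_contra hlt
  have := partA' R h hx (by omega)
  omega

/-- **(B)** a class contained in the order -/
theorem partB {f d N i : ℕ} {l : List Fac} (h : Sh p (Nat.card S) f d N l) (hi : i ∈ C8) (hF : Fl S (p ^ k) i) :
    ∃ x ∈ l, Good f (k * i) x := by
  have hk := R.hk
  have h2 := two_le_p R
  have hi5 : 5 ≤ i ∧ i ≠ 6 := by
    simp only [C8, Finset.mem_insert, Finset.mem_singleton] at hi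
    omega
  have h5 : 5 ≤ k * i := by nlinarith
  have h6 : k * i ≠ 6 := by
    intro h6
    rcases (show k = 1 ∨ 2 ≤ k by omega) with rfl | hk2
    · omega
    · nlinarith
  obtain ⟨u, hu⟩ := exists_prim h2 (show 3 ≤ k * i by omega) (fun h => h6 h.2)
  obtain ⟨x, hx, hxd, -⟩ := h.exists_ex R.hp hu (hF.dvd u (prim_pow hk hu))
  exact ⟨x, hx, good_of_dvd (by omega) hu (by omega) hxd⟩

theorem part18 {f d N : ℕ} {l : List Fac} (h : Sh p (Nat.card S) f d N l) (hpos : ∀ x ∈ l, 0 < ex f x) :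
    ∃ x ∈ l, ex f x = 18 * k := by
  have hk := R.hk
  obtain ⟨x, hx, hg⟩ := partB R h (i := 18) (by decide) (R.top 18 (by decide))
  refine ⟨x, hx, le_antisymm (ex_le R h hx) ?_⟩
  have := Nat.le_of_dvd (hpos x hx) hg.ex
  omega

theorem part14 {f d N : ℕ} {l : List Fac} (h : Sh p (Nat.card S) f d N l) (hpos : ∀ x ∈ l, 0 < ex f x) :
    ∃ x ∈ l, ex f x = 14 * k := by
  have hk := R.hk
  obtain ⟨x, hx, hg⟩ := partB R h (i := 14) (by decide) (R.top 14 (by decide))
  refine ⟨x, hx, ?_⟩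
  have h1 := ex_le R h hx
  have h2 := hpos x hx
  obtain ⟨t, ht⟩ := hg.ex
  have ht0 : t ≠ 0 := by
    rintro rfl
    omega
  have ht1 : t < 2 := by
    by_contra hlt
    have h3 : k * 14 * 2 ≤ k * 14 * t := Nat.mul_le_mul_left _ (by omega)
    omega
  have : t = 1 := by omega
  subst this
  omega

/-- an exponent between `14 k` and `18 k` is one of them -/
theorem mid {f d N : ℕ} {l : List Fac} (h : Sh p (Nat.card S) f d N l) {x : Fac} (hx : x ∈ l)
    (h14 : 14 * k ≤ ex f x) : ex f x = 14 * k ∨ ex f x = 18 * k := by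
  have hk := R.hk
  have := partA' R h hx (by omega)
  omega

theorem no_psl {f d N n : ℕ} (hn : 2 ≤ n) (h : Sh p (Nat.card S) f d N (Fam.psl n).facs) : False := by
  have hk := R.hk
  have hf := h.f_pos
  have hmem : ∀ j, 2 ≤ j → j ≤ n → Fac.sub j ∈ (Fam.psl n).facs := fun j h1 h2 =>
    List.mem_map.2 ⟨j - 2, List.mem_range.2 (by omega), by rw [show j - 2 + 2 = j by omega]⟩
  have hcas : ∀ x ∈ (Fam.psl n).facs, ∃ j, 2 ≤ j ∧ j ≤ n ∧ x = Fac.sub j := by
    intro x hx
    obtain ⟨i, hi, rfl⟩ := List.mem_map.1 hx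
    rw [List.mem_range] at hi
    exact ⟨i + 2, by omega, by omega, rfl⟩
  have hpos : ∀ x ∈ (Fam.psl n).facs, 0 < ex f x := by
    intro x hx
    obtain ⟨j, h1, -, rfl⟩ := hcas x hx
    exact Nat.mul_pos (by omega) (by omega)
  obtain ⟨x, hx, hx18⟩ := part18 R h hpos
  obtain ⟨y, hy, hy14⟩ := part14 R h hpos
  obtain ⟨a, ha1, ha2, rfl⟩ := hcas x hx
  obtain ⟨b, hb1, hb2, rfl⟩ := hcas y hy
  change f * a = 18 * k at hx18
  change f * b = 14 * k at hy14
  have h1 := ex_le R h (hmem n hn le_rfl)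
  change f * n ≤ 18 * k at h1
  have h2 : f * a ≤ f * n := Nat.mul_le_mul_left _ ha2
  have hbn : b < n := by
    by_contra hlt
    have : b = n := by omega
    subst this
    omega
  obtain ⟨c, rfl⟩ : ∃ c, n = c + 1 := ⟨n - 1, by omega⟩
  have h3 : f * b ≤ f * c := Nat.mul_le_mul_left _ (by omega)
  have h4 := mid R h (hmem c (by omega) (by omega)) (show 14 * k ≤ f * c by omega)
  change f * c = 14 * k ∨ f * c = 18 * k at h4
  rw [mul_add, mul_one] at h1 h2
  have hf4 : f = 4 * k := by omega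
  subst hf4
  have h5 : k * (4 * c) = k * 14 := by
    have : 4 * k * c = k * (4 * c) := by ring
    omega
  have := Nat.eq_of_mul_eq_mul_left hk h5
  omega

theorem no_sp {f d N m : ℕ} (hm : 1 ≤ m) (h : Sh p (Nat.card S) f d N (Fam.psp m).facs) : False := by
  have hk := R.hk
  have hf := h.f_pos
  have hmem : ∀ j, 1 ≤ j → j ≤ m → Fac.sub (2 * j) ∈ (Fam.psp m).facs := fun j h1 h2 =>
    List.mem_map.2 ⟨j - 1, List.mem_range.2 (by omega), by rw [show j - 1 + 1 = j by omega]⟩
  have hcas : ∀ x ∈ (Fam.psp m).facs, ∃ j, 1 ≤ j ∧ j ≤ m ∧ x = Fac.sub (2 * j) := by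
    intro x hx
    obtain ⟨i, hi, rfl⟩ := List.mem_map.1 hx
    rw [List.mem_range] at hi
    exact ⟨i + 1, by omega, by omega, rfl⟩
  have hpos : ∀ x ∈ (Fam.psp m).facs, 0 < ex f x := by
    intro x hx
    obtain ⟨j, h1, -, rfl⟩ := hcas x hx
    exact Nat.mul_pos (by omega) (by omega)
  have hex : ∀ j, ex f (Fac.sub (2 * j)) = 2 * (f * j) := fun j => by
    change f * (2 * j) = _
    ring
  obtain ⟨x, hx, hx18⟩ := part18 R h hpos
  obtain ⟨y, hy, hy14⟩ := part14 R h hpos
  obtain ⟨a, ha1, ha2, rfl⟩ := hcas x hx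
  obtain ⟨b, hb1, hb2, rfl⟩ := hcas y hy
  rw [hex] at hx18 hy14
  have h1 := ex_le R h (hmem m hm le_rfl)
  rw [hex] at h1
  have h2 : f * a ≤ f * m := Nat.mul_le_mul_left _ ha2
  have hbn : b < m := by
    by_contra hlt
    have : b = m := by omega
    subst this
    omega
  obtain ⟨c, rfl⟩ : ∃ c, m = c + 1 := ⟨m - 1, by omega⟩
  have h3 : f * b ≤ f * c := Nat.mul_le_mul_left _ (by omega)
  have h4 := mid R h (hmem c (by omega) (by omega)) (by rw [hex]; omega)
  rw [hex] at h4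
  rw [mul_add, mul_one] at h1 h2
  have hf4 : f = 2 * k := by omega
  subst hf4
  have h5 : k * (2 * c) = k * 7 := by
    have : 2 * k * c = k * (2 * c) := by ring
    omega
  have := Nat.eq_of_mul_eq_mul_left hk h5
  omega

theorem no_oplus {f d N m : ℕ} (hm : 4 ≤ m) (h : Sh p (Nat.card S) f d N (Fam.oplus m).facs) : False := by
  have hk := R.hk
  have hf := h.f_pos
  have hmem : ∀ j, 1 ≤ j → j < m → Fac.sub (2 * j) ∈ (Fam.oplus m).facs := fun j h1 h2 =>
    List.mem_cons_of_mem _ (List.mem_map.2 ⟨j - 1, List.mem_range.2 (by omega), by rw [show j - 1 + 1 = j by omega]⟩)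
  have hcas : ∀ x ∈ (Fam.oplus m).facs, x = Fac.sub m ∨ ∃ j, 1 ≤ j ∧ j < m ∧ x = Fac.sub (2 * j) := by
    intro x hx
    rcases List.mem_cons.1 hx with rfl | hx
    · exact Or.inl rfl
    · obtain ⟨i, hi, rfl⟩ := List.mem_map.1 hx
      rw [List.mem_range] at hi
      exact Or.inr ⟨i + 1, by omega, by omega, rfl⟩
  have hpos : ∀ x ∈ (Fam.oplus m).facs, 0 < ex f x := by
    intro x hx
    rcases hcas x hx with rfl | ⟨j, h1, -, rfl⟩
    · exact Nat.mul_pos (by omega) (by omega)
    · exact Nat.mul_pos (by omega) (by omega)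
  have hex : ∀ j, ex f (Fac.sub (2 * j)) = 2 * (f * j) := fun j => by
    change f * (2 * j) = _
    ring
  obtain ⟨x, hx, hx18⟩ := part18 R h hpos
  obtain ⟨y, hy, hy14⟩ := part14 R h hpos
  obtain ⟨c, rfl⟩ : ∃ c, m = c + 1 := ⟨m - 1, by omega⟩
  have h1 := ex_le R h (hmem c (by omega) (by omega))
  rw [hex] at h1
  have h3f : f * 3 ≤ f * c := Nat.mul_le_mul_left _ (by omega)
  have hfm : f * (c + 1) = f * c + f := by ring
  have hfc : f * c = 9 * k := by
    rcases hcas x hx with rfl | ⟨j, h2, h3, rfl⟩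
    · change f * (c + 1) = 18 * k at hx18
      omega
    · rw [hex] at hx18
      have : f * j ≤ f * c := Nat.mul_le_mul_left _ (by omega)
      omega
  rcases hcas y hy with rfl | ⟨b, hb1, hb2, rfl⟩
  · change f * (c + 1) = 14 * k at hy14
    omega
  · rw [hex] at hy14
    have hbc : b < c := by
      by_contra hlt
      have : b = c := by omega
      subst this
      omega
    obtain ⟨e, rfl⟩ : ∃ e, c = e + 1 := ⟨c - 1, by omega⟩
    have h3 : f * b ≤ f * e := Nat.mul_le_mul_left _ (by omega)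
    have h4 := mid R h (hmem e (by omega) (by omega)) (by rw [hex]; omega)
    rw [hex] at h4
    rw [mul_add, mul_one] at hfc
    have hf4 : f = 2 * k := by omega
    subst hf4
    have h5 : k * (2 * e) = k * 7 := by
      have : 2 * k * e = k * (2 * e) := by ring
      omega
    have := Nat.eq_of_mul_eq_mul_left hk h5
    omega

theorem no_ominus {f d N m : ℕ} (hm : 4 ≤ m) (h : Sh p (Nat.card S) f d N (Fam.ominus m).facs) : False := by
  have hk := R.hk
  have hf := h.f_pos
  have hmem : ∀ j, 1 ≤ j → j < m → Fac.sub (2 * j) ∈ (Fam.ominus m).facs := fun j h1 h2 =>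
    List.mem_cons_of_mem _ (List.mem_map.2 ⟨j - 1, List.mem_range.2 (by omega), by rw [show j - 1 + 1 = j by omega]⟩)
  have hmem' : Fac.add m ∈ (Fam.ominus m).facs := List.mem_cons_self
  have hcas : ∀ x ∈ (Fam.ominus m).facs, x = Fac.add m ∨ ∃ j, 1 ≤ j ∧ j < m ∧ x = Fac.sub (2 * j) := by
    intro x hx
    rcases List.mem_cons.1 hx with rfl | hx
    · exact Or.inl rfl
    · obtain ⟨i, hi, rfl⟩ := List.mem_map.1 hx
      rw [List.mem_range] at hi
      exact Or.inr ⟨i + 1, by omega, by omega, rfl⟩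
  have hpos : ∀ x ∈ (Fam.ominus m).facs, 0 < ex f x := by
    intro x hx
    rcases hcas x hx with rfl | ⟨j, h1, -, rfl⟩
    · exact Nat.mul_pos two_pos (Nat.mul_pos (by omega) (by omega))
    · exact Nat.mul_pos (by omega) (by omega)
  have hex : ∀ j, ex f (Fac.sub (2 * j)) = 2 * (f * j) := fun j => by
    change f * (2 * j) = _
    ring
  have hex' : ∀ j, ex f (Fac.add j) = 2 * (f * j) := fun j => rfl
  obtain ⟨x, hx, hx18⟩ := part18 R h hpos
  obtain ⟨y, hy, hy14⟩ := part14 R h hpos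
  have h1 := ex_le R h hmem'
  rw [hex'] at h1
  have hfc : f * m = 9 * k := by
    rcases hcas x hx with rfl | ⟨j, h2, h3, rfl⟩
    · rw [hex'] at hx18
      omega
    · rw [hex] at hx18
      have : f * j ≤ f * m := Nat.mul_le_mul_left _ (by omega)
      omega
  rcases hcas y hy with rfl | ⟨b, hb1, hb2, rfl⟩
  · rw [hex'] at hy14
    omega
  · rw [hex] at hy14
    obtain ⟨e, rfl⟩ : ∃ e, m = e + 1 := ⟨m - 1, by omega⟩
    have h3 : f * b ≤ f * e := Nat.mul_le_mul_left _ (by omega)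
    have h4 := mid R h (hmem e (by omega) (by omega)) (by rw [hex]; omega)
    rw [hex] at h4
    rw [mul_add, mul_one] at hfc
    have hf4 : f = 2 * k := by omega
    subst hf4
    have h5 : k * (2 * e) = k * 7 := by
      have : 2 * k * e = k * (2 * e) := by ring
      omega
    have := Nat.eq_of_mul_eq_mul_left hk h5
    omega

theorem no_psu {f d N n : ℕ} (hn : 3 ≤ n) (h : Sh p (Nat.card S) f d N (Fam.psu n).facs) : False := by
  have hk := R.hk
  have hf := h.f_pos
  have hmo : ∀ j, 1 ≤ j → 2 * j + 1 ≤ n → Fac.add (2 * j + 1) ∈ (Fam.psu n).facs := fun j h1 h2 => by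
    refine List.mem_map.2 ⟨2 * j - 1, List.mem_range.2 (by omega), ?_⟩
    rw [if_pos (by rw [show 2 * j - 1 + 1 = 2 * j by omega]; exact even_two_mul j), show 2 * j - 1 + 2 = 2 * j + 1 by omega]
  have hcas : ∀ x ∈ (Fam.psu n).facs, (∃ j, 1 ≤ j ∧ 2 * j + 1 ≤ n ∧ x = Fac.add (2 * j + 1)) ∨
      ∃ j, 1 ≤ j ∧ 2 * j ≤ n ∧ x = Fac.sub (2 * j) := by
    intro x hx
    obtain ⟨i, hi, rfl⟩ := List.mem_map.1 hx
    rw [List.mem_range] at hi
    rcases Nat.even_or_odd (i + 1) with ho | ho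
    · rw [if_pos ho]
      obtain ⟨j, hj⟩ := ho
      exact Or.inl ⟨j, by omega, by omega, by rw [show i + 2 = 2 * j + 1 by omega]⟩
    · rw [if_neg (Nat.not_even_iff_odd.2 ho)]
      obtain ⟨j, hj⟩ := ho
      exact Or.inr ⟨j + 1, by omega, by omega, by rw [show i + 2 = 2 * (j + 1) by omega]⟩
  have hpos : ∀ x ∈ (Fam.psu n).facs, 0 < ex f x := by
    intro x hx
    rcases hcas x hx with ⟨j, h1, -, rfl⟩ | ⟨j, h1, -, rfl⟩
    · exact Nat.mul_pos two_pos (Nat.mul_pos (by omega) (by omega))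
    · exact Nat.mul_pos (by omega) (by omega)
  have hex : ∀ j, ex f (Fac.sub (2 * j)) = 2 * (f * j) := fun j => by
    change f * (2 * j) = _
    ring
  have hex' : ∀ j, ex f (Fac.add (2 * j + 1)) = 4 * (f * j) + 2 * f := fun j => by
    change 2 * (f * (2 * j + 1)) = _
    ring
  obtain ⟨x, hx, hx18⟩ := part18 R h hpos
  obtain ⟨y, hy, hy14⟩ := part14 R h hpos
  obtain ⟨c, hc1, hc⟩ : ∃ c, 1 ≤ c ∧ (n = 2 * c + 1 ∨ n = 2 * c + 2) := ⟨(n - 1) / 2, by omega, by omega⟩
  have h1 := ex_le R h (hmo c hc1 (by omega))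
  rw [hex'] at h1
  have hfc1 : f * (c + 1) = f * c + f := by ring
  have hff : f * 1 ≤ f * c := Nat.mul_le_mul_left _ hc1
  have h9 : 4 * (f * c) + 2 * f = 18 * k := by
    rcases hcas x hx with ⟨j, h2, h3, rfl⟩ | ⟨j, h2, h3, rfl⟩
    · rw [hex'] at hx18
      have : f * j ≤ f * c := Nat.mul_le_mul_left _ (by omega)
      omega
    · rw [hex] at hx18
      have : f * j ≤ f * (c + 1) := Nat.mul_le_mul_left _ (by omega)
      omega
  rcases hcas y hy with ⟨b, hb1, hb2, rfl⟩ | ⟨b, hb1, hb2, rfl⟩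
  · rw [hex'] at hy14
    have hbc : b < c := by
      by_contra hlt
      have : b = c := by omega
      subst this
      omega
    obtain ⟨e, rfl⟩ : ∃ e, c = e + 1 := ⟨c - 1, by omega⟩
    have h3 : f * b ≤ f * e := Nat.mul_le_mul_left _ (by omega)
    have h4 := mid R h (hmo e (by omega) (by omega)) (by rw [hex']; omega)
    rw [hex'] at h4
    have hfe : f * (e + 1) = f * e + f := by ring
    have hfk : f = k := by omega
    subst hfk
    have he : f * e = f * 3 := by omega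
    have he3 := Nat.eq_of_mul_eq_mul_left hk he
    subst he3
    -- `n = 9` or `n = 10`: the classes 7 and 12 are missing
    have key : ∀ i, (i = 7 ∨ i = 12) → ¬ ∃ x ∈ (Fam.psu n).facs, Good f (f * i) x := by
      rintro i hi ⟨z, hz, hg⟩
      rcases hcas z hz with ⟨j, hj1, hj2, rfl⟩ | ⟨j, hj1, hj2, rfl⟩
      · obtain ⟨g1, g2⟩ := hg
        rw [Nat.mul_dvd_mul_iff_left hk] at g2
        rw [show 2 * (f * (2 * j + 1)) = f * (2 * (2 * j + 1)) by ring, Nat.mul_dvd_mul_iff_left hk] at g1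
        have hj : j ≤ 4 := by omega
        rcases hi with rfl | rfl <;> interval_cases j <;> omega
      · have g1 : f * i ∣ f * (2 * j) := hg
        rw [Nat.mul_dvd_mul_iff_left hk] at g1
        have hj : j ≤ 5 := by omega
        rcases hi with rfl | rfl <;> interval_cases j <;> omega
    rcases R.one 7 (by decide) 12 (by decide) (by norm_num) with hF | hF
    · exact key 7 (Or.inl rfl) (partB R h (by decide) hF)
    · exact key 12 (Or.inr rfl) (partB R h (by decide) hF)
  · rw [hex] at hy14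
    have : f * b ≤ f * (c + 1) := Nat.mul_le_mul_left _ (by omega)
    omega

/-- the two exponents `18 k`, `14 k` in a finite list -/
theorem fin_list {f d N : ℕ} {l : List Fac} (h : Sh p (Nat.card S) f d N l) (hpos : ∀ x ∈ l, 0 < ex f x) :
    (∃ x ∈ l, ex f x = 18 * k) ∧ (∃ x ∈ l, ex f x = 14 * k) ∧ ∀ x ∈ l, ex f x ≤ 18 * k :=
  ⟨part18 R h hpos, part14 R h hpos, fun _ hx => ex_le R h hx⟩

/-- **The families in the own characteristic.** -/
theorem core {fam : Fam} {f d N : ℕ} (h : Sh p (Nat.card S) f d N fam.facs)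
    (hn : match fam with
      | .psl n => 2 ≤ n | .psp m => 1 ≤ m | .psu n => 3 ≤ n | .oodd m => 1 ≤ m | .oplus m => 4 ≤ m | .ominus m => 4 ≤ m
      | _ => True) : fam = .e7 ∧ f = k := by
  have hk := R.hk
  have hf := h.f_pos
  cases fam with
  | psl n => exact (no_psl R hn h).elim
  | psp m => exact (no_sp R hn h).elim
  | oodd m => exact (no_sp R hn h).elim
  | psu n => exact (no_psu R hn h).elim
  | oplus m => exact (no_oplus R hn h).elim
  | ominus m => exact (no_ominus R hn h).elim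
  | e7 =>
    refine ⟨rfl, ?_⟩
    obtain ⟨h1, h2, h3⟩ := fin_list R h (by simp [Fam.facs, ex]; omega)
    simp only [Fam.facs, ex, List.map_cons, List.map_nil, List.mem_cons, List.not_mem_nil, or_false, exists_eq_or_imp,
      exists_eq_left, forall_eq_or_imp, forall_eq] at h1 h2 h3
    omega
  | _ =>
    exfalso
    obtain ⟨h1, h2, h3⟩ := fin_list R h (by simp [Fam.facs, ex]; try omega)
    simp only [Fam.facs, ex, List.map_cons, List.map_nil, List.mem_cons, List.not_mem_nil, or_false, exists_eq_or_imp,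
      exists_eq_left, forall_eq_or_imp, forall_eq] at h1 h2 h3
    omega

end core

end Cfsg.Agent.H791.E7
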